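import Cfsg.Agent.Lib.Involution.BaerSuzuki
import Cfsg.Agent.Lib.Involution.Dihedral
import Cfsg.Agent.Lib.Thompson.Cores
import Cfsg.Agent.Lib.OddOrderGlue.Basic

/-!
A group in which any two non-trivial class sizes of every subgroup have a common factor has no
non-trivial real element of odd order, hence is `2`-closed and (by the odd order theorem) solvable.
-/

set_option autoImplicit false
set_option linter.style.haveILetI false

namespace Cfsg.Agent.ClassSize23

open Subgroup Cfsg

universe u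

variable {G : Type u} [Group G] [Finite G]

/-- No `2`-element inverts an element of odd prime order. -/
def NoInv (G : Type u) [Group G] : Prop :=
  ∀ g y : G, (∃ k : ℕ, g ^ 2 ^ k = 1) → (orderOf y).Prime → Odd (orderOf y) → g * y * g⁻¹ ≠ y⁻¹

theorem class_sizes {H : Type u} [Group H] [Finite H] {g y : H} (hr : (orderOf y).Prime)
    (hodd : Odd (orderOf y)) (hgy : g * y * g⁻¹ = y⁻¹) (hgen : closure ({g, y} : Set H) = ⊤) :
    (centralizer ({y} : Set H)).index = 2 ∧ (centralizer ({g} : Set H)).index = orderOf y := by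
  have hY : (zpowers y).Normal := by
    have hg : g ∈ normalizer (zpowers y : Set H) := by
      rw [mem_normalizer_iff_map_conj_eq, MonoidHom.map_zpowers]
      show zpowers (g * y * g⁻¹) = zpowers y
      rw [hgy, zpowers_inv]
    have hy : y ∈ normalizer (zpowers y : Set H) := le_normalizer (mem_zpowers y)
    rw [← normalizer_eq_top_iff, ← top_le_iff, ← hgen, closure_le]
    rintro x (rfl | rfl)
    exacts [hg, hy]
  haveI := hY
  have hdec : ∀ h : H, ∃ i j : ℤ, h = y ^ i * g ^ j := by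
    intro h
    have hh : h ∈ zpowers y ⊔ zpowers g := by
      have : (⊤ : Subgroup H) ≤ zpowers y ⊔ zpowers g := by
        rw [← hgen, closure_le]
        rintro x (rfl | rfl)
        exacts [mem_sup_right (mem_zpowers x), mem_sup_left (mem_zpowers x)]
      exact this (mem_top h)
    obtain ⟨a, ⟨i, rfl⟩, b, ⟨j, rfl⟩, rfl⟩ := mem_sup_of_normal_left.1 hh
    exact ⟨i, j, rfl⟩
  have hne : y⁻¹ ≠ y := by
    intro h
    have h2 : orderOf y ∣ 2 := orderOf_dvd_of_pow_eq_one (by
      rw [pow_two]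
      nth_rw 1 [← h]
      exact inv_mul_cancel y)
    rw [Nat.prime_dvd_prime_iff_eq hr Nat.prime_two] at h2
    rw [h2] at hodd
    exact absurd hodd (by decide)
  constructor
  · have hmem : ∀ j : ℤ, g ^ (2 * j) ∈ centralizer ({y} : Set H) := by
      intro j
      rw [zpow_mul]
      refine zpow_mem (mem_centralizer_singleton_iff.2 ?_) j
      have : g ^ 2 * y * (g ^ 2)⁻¹ = y := by
        rw [pow_two, show g * g * y * (g * g)⁻¹ = g * (g * y * g⁻¹) * g⁻¹ by group, hgy]
        rw [show g * y⁻¹ * g⁻¹ = (g * y * g⁻¹)⁻¹ by group, hgy, inv_inv]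
      have h' := eq_mul_inv_iff_mul_eq.1 this.symm
      simpa [zpow_ofNat] using h'.symm
    have hyc : ∀ i : ℤ, y ^ i ∈ centralizer ({y} : Set H) := fun i =>
      mem_centralizer_singleton_iff.2 ((Commute.refl y).zpow_left i).eq
    have hgc : g ∉ centralizer ({y} : Set H) := by
      intro h
      rw [mem_centralizer_singleton_iff] at h
      rw [h, mul_inv_cancel_right] at hgy
      exact hne hgy.symm
    rw [index_eq_two_iff]
    refine ⟨g, fun b => ?_⟩
    obtain ⟨i, j, rfl⟩ := hdec b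
    rw [mul_assoc, ← zpow_add_one, mul_mem_cancel_left (hyc i), mul_mem_cancel_left (hyc i)]
    rcases Int.even_or_odd' j with ⟨m, rfl | rfl⟩
    · refine Or.inr ⟨hmem m, fun h => hgc ?_⟩
      rwa [zpow_add_one, mul_mem_cancel_left (hmem m)] at h
    · refine Or.inl ⟨?_, fun h => hgc ?_⟩
      · rw [show 2 * m + 1 + 1 = 2 * (m + 1) by ring]
        exact hmem (m + 1)
      · rwa [zpow_add_one, mul_mem_cancel_left (hmem m)] at h
  · let f : zpowers y → H ⧸ centralizer ({g} : Set H) := fun z => (z.1 : H)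
    have hf : Function.Bijective f := by
      constructor
      · intro a b h
        have h1 : (a.1)⁻¹ * b.1 ∈ centralizer ({g} : Set H) := QuotientGroup.eq.1 h
        rw [mem_centralizer_singleton_iff] at h1
        obtain ⟨k, hk⟩ := mem_zpowers_iff.1 (mul_mem (inv_mem a.2) b.2)
        rw [← hk] at h1
        have h2 : g * y ^ k * g⁻¹ = y ^ k := by rw [← h1, mul_inv_cancel_right]
        have h3 : g * y ^ k * g⁻¹ = (y ^ k)⁻¹ := by
          have := map_zpow (MulAut.conj g) y k
          simp only [MulAut.conj_apply] at this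
          rw [this, hgy, inv_zpow]
        have h4 : (y ^ k) ^ 2 = 1 := by
          rw [pow_two]
          nth_rw 1 [← h2]
          rw [h3, inv_mul_cancel]
        have h5 : (y ^ k) ^ orderOf y = 1 := by
          rw [← zpow_natCast, ← zpow_mul, mul_comm, zpow_mul, zpow_natCast, pow_orderOf_eq_one,
            one_zpow]
        have h6 : y ^ k = 1 := orderOf_eq_one_iff.1 (Nat.eq_one_of_dvd_coprimes
          (Nat.coprime_two_left.2 hodd) (orderOf_dvd_of_pow_eq_one h4)
          (orderOf_dvd_of_pow_eq_one h5))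
        rw [hk, inv_mul_eq_one] at h6
        exact Subtype.ext h6
      · intro q
        obtain ⟨h, rfl⟩ := QuotientGroup.mk_surjective q
        obtain ⟨i, j, rfl⟩ := hdec h
        refine ⟨⟨y ^ i, zpow_mem (mem_zpowers y) i⟩, QuotientGroup.eq.2 ?_⟩
        rw [inv_mul_cancel_left]
        exact zpow_mem (mem_centralizer_singleton_iff.2 rfl) j
    rw [index, ← Nat.card_congr (Equiv.ofBijective f hf), Nat.card_zpowers]

theorem noInv_of_class_sizes
    (h : ∀ (H : Subgroup G) (x y : H), 1 < (centralizer ({x} : Set H)).index →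
      1 < (centralizer ({y} : Set H)).index →
      ¬ ((centralizer ({x} : Set H)).index).Coprime (centralizer ({y} : Set H)).index) :
    NoInv G := by
  intro g y _ hr hodd hgy
  let H : Subgroup G := closure {g, y}
  let g' : H := ⟨g, subset_closure (by simp)⟩
  let y' : H := ⟨y, subset_closure (by simp)⟩
  have ho : orderOf y' = orderOf y := orderOf_mk _ _
  have hgen : closure ({g', y'} : Set H) = ⊤ := by
    rw [← map_injective.{u} H.subtype_injective |>.eq_iff, MonoidHom.map_closure,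
      ← MonoidHom.range_eq_map, H.range_subtype, Set.image_pair]
    rfl
  obtain ⟨h1, h2⟩ := class_sizes (g := g') (y := y') (ho ▸ hr) (ho ▸ hodd) (Subtype.ext hgy) hgen
  rw [ho] at h2
  refine h H y' g' (by omega) (by rw [h2]; exact hr.one_lt) ?_
  rw [h1, h2, Nat.coprime_two_left]
  exact hodd

theorem involution_mem_pCore (hN : NoInv G) {t : G} (ht : orderOf t = 2) : t ∈ pCore 2 G := by
  haveI : Fact (Nat.Prime 2) := ⟨Nat.prime_two⟩
  have htt := Involution.mul_self_of_orderOf ht
  obtain ⟨N, hNn, hNp, htN⟩ := Involution.baerSuzuki (p := 2) t fun c => by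
    have hu : orderOf (c * t * c⁻¹) = 2 := (MulEquiv.orderOf_eq (MulAut.conj c) t).trans ht
    set d := t * (c * t * c⁻¹) with hd
    have hd2 : ∃ k, orderOf d = 2 ^ k := by
      refine ⟨_, Nat.eq_prime_pow_of_unique_prime_dvd (orderOf_pos d).ne' fun {q} hq hqd => ?_⟩
      by_contra hq2
      have hoe : orderOf (d ^ (orderOf d / q)) = q :=
        orderOf_pow_orderOf_div (orderOf_pos d).ne' hqd
      refine hN t (d ^ (orderOf d / q)) ⟨1, by rw [pow_one, pow_two, htt]⟩ (hoe.symm ▸ hq)
        (hoe.symm ▸ hq.odd_of_ne_two hq2) ?_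
      rw [← inv_pow, ← conj_pow, hd, Involution.inverts_mul htt
        (Involution.mul_self_of_orderOf hu)]
    obtain ⟨k, hk⟩ := hd2
    obtain ⟨e⟩ := Involution.closure_pair_equiv_dihedral ht hu
    refine IsPGroup.of_card (n := k + 1) ?_
    rw [Nat.card_congr e.toEquiv, DihedralGroup.nat_card, ← hd, hk, pow_succ']
  exact Thompson.le_pCore hNn hNp htN

theorem noInv_quotient (hN : NoInv G) (N : Subgroup G) [N.Normal] (hNp : IsPGroup 2 N) :
    NoInv (G ⧸ N) := by
  rintro gb yb ⟨k, hk⟩ hr hodd hgy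
  set r := orderOf yb with hrdef
  haveI : Fact r.Prime := ⟨hr⟩
  obtain ⟨y0, rfl⟩ := QuotientGroup.mk_surjective yb
  obtain ⟨g, rfl⟩ := QuotientGroup.mk_surjective gb
  have hr2 : r ≠ 2 := fun h => absurd (h ▸ hodd) (by decide)
  -- a lift of order `r`
  obtain ⟨y, hy, hyr⟩ : ∃ y : G, (y : G ⧸ N) = y0 ∧ orderOf y = r := by
    obtain ⟨e, he⟩ := hNp ⟨y0 ^ r, (QuotientGroup.eq_one_iff _).1 (by
      rw [QuotientGroup.mk_pow, hrdef, pow_orderOf_eq_one])⟩
    have he' : (y0 ^ r) ^ 2 ^ e = 1 := congrArg Subtype.val he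
    have hco : (2 ^ e).Coprime r := (Nat.coprime_two_left.2 hodd).pow_left e
    obtain ⟨b, -, hb⟩ := Nat.exists_mul_mod_eq_one_of_coprime hco hr.one_lt
    refine ⟨y0 ^ (2 ^ e * b), ?_, ?_⟩
    · rw [QuotientGroup.mk_pow, ← pow_mod_orderOf, ← hrdef, hb, pow_one]
    · refine ((Nat.dvd_prime hr).1 (orderOf_dvd_of_pow_eq_one ?_)).resolve_left fun h => ?_
      · rw [← pow_mul, show 2 ^ e * b * r = r * 2 ^ e * b by ring, pow_mul, pow_mul, he', one_pow]
      · have h1 := congrArg (fun z : G => (z : G ⧸ N)) (orderOf_eq_one_iff.1 h)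
        simp only [QuotientGroup.mk_pow, QuotientGroup.mk_one] at h1
        rw [← pow_mod_orderOf, ← hrdef, hb, pow_one, ← orderOf_eq_one_iff, ← hrdef] at h1
        exact hr.ne_one h1
  rw [← hy] at hgy
  set M := N ⊔ zpowers y with hM
  have hinj : ∀ a ∈ zpowers y, (a : G ⧸ N) = 1 → a = 1 := by
    intro a ha h1
    obtain ⟨j, hj⟩ := hNp ⟨a, (QuotientGroup.eq_one_iff a).1 h1⟩
    have hd : orderOf a ∣ r := hyr ▸ Nat.card_zpowers y ▸ Subgroup.orderOf_dvd_natCard _ ha
    exact orderOf_eq_one_iff.1 (Nat.eq_one_of_dvd_coprimes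
      ((Nat.coprime_two_left.2 hodd).pow_left j)
      (orderOf_dvd_of_pow_eq_one (congrArg Subtype.val hj)) hd)
  have hcard : ¬ r ^ 2 ∣ Nat.card M := by
    obtain ⟨a, ha⟩ := IsPGroup.iff_card.1 hNp
    intro hd
    rw [hM, sup_comm] at hd
    have h1 := hd.trans (Thompson.card_sup_dvd_mul (zpowers y) N)
    rw [Nat.card_zpowers, hyr, ha, pow_two] at h1
    have h2 : r ∣ 2 ^ a := (Nat.mul_dvd_mul_iff_left hr.pos).1 h1
    exact hr2 ((Nat.prime_dvd_prime_iff_eq hr Nat.prime_two).1 (hr.dvd_of_dvd_pow h2))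
  have hzM : g * y * g⁻¹ ∈ M := by
    have h1 : ((g * y * g⁻¹ : G) : G ⧸ N) = ((y⁻¹ : G) : G ⧸ N) := by simpa using hgy
    have h2 : y⁻¹⁻¹ * (g * y * g⁻¹) ∈ N := QuotientGroup.eq.1 h1.symm
    have := mul_mem (inv_mem (mem_sup_right (S := N) (mem_zpowers y))) (mem_sup_left (T := zpowers y) h2)
    simpa [mul_assoc] using this
  have hsyl : ∀ z : M, orderOf z = r → Nat.card (zpowers z) = r ^ (Nat.card M).factorization r := by
    intro z hz
    have h1 : 1 ≤ (Nat.card M).factorization r :=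
      (hr.dvd_iff_one_le_factorization Nat.card_pos.ne').1 (hz ▸ orderOf_dvd_natCard z)
    have h2 : (Nat.card M).factorization r < 2 := by
      by_contra h
      exact hcard ((hr.pow_dvd_iff_le_factorization Nat.card_pos.ne').2 (not_lt.1 h))
    rw [Nat.card_zpowers, hz, show (Nat.card M).factorization r = 1 by omega, pow_one]
  let y' : M := ⟨y, mem_sup_right (mem_zpowers y)⟩
  let z' : M := ⟨g * y * g⁻¹, hzM⟩
  have hoy : orderOf y' = r := (orderOf_mk _ _).trans hyr
  have hoz : orderOf z' = r := (orderOf_mk _ _).trans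
    ((MulEquiv.orderOf_eq (MulAut.conj g) y).trans hyr)
  obtain ⟨m, hm⟩ := MulAction.exists_smul_eq M (Sylow.ofCard (zpowers z') (hsyl z' hoz))
    (Sylow.ofCard (zpowers y') (hsyl y' hoy))
  have hmz : m * z' * m⁻¹ ∈ zpowers y' := by
    have h := congrArg (fun S : Sylow r M => (S : Subgroup M)) hm
    simp only [Sylow.smul_def, Sylow.pointwise_smul_def, Sylow.coe_ofCard] at h
    rw [← h]
    exact smul_mem_pointwise_smul z' (MulAut.conj m) _ (mem_zpowers z')
  obtain ⟨i, hi⟩ := mem_zpowers_iff.1 hmz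
  have hi' : (m : G) * (g * y * g⁻¹) * (m : G)⁻¹ = y ^ i := (congrArg Subtype.val hi).symm
  obtain ⟨n, hn, a, ha, hna⟩ := mem_sup_of_normal_left.1 m.2
  obtain ⟨j, rfl⟩ := mem_zpowers_iff.1 ha
  have hfix : ((y ^ j)⁻¹ : G) * y ^ i * y ^ j = y ^ i := by group
  set g' := (y ^ j)⁻¹ * (m : G) * g with hg'
  have hg'y : g' * y * g'⁻¹ = y ^ i := by
    rw [← hfix, ← hi', hg']; group
  have hg'b : (g' : G ⧸ N) = g := by
    have h1 : (y ^ j)⁻¹ * (m : G) ∈ N := by
      rw [← hna]
      have := (inferInstance : N.Normal).conj_mem n hn (y ^ j)⁻¹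
      simpa [mul_assoc] using this
    rw [hg', QuotientGroup.mk_mul, (QuotientGroup.eq_one_iff _).2 h1, one_mul]
  refine hN g' y ?_ (hyr.symm ▸ hr) (hyr.symm ▸ hodd) ?_
  · have h1 : g' ^ 2 ^ k ∈ N := (QuotientGroup.eq_one_iff _).1 (by
      rw [QuotientGroup.mk_pow, hg'b, hk])
    obtain ⟨l, hl⟩ := hNp ⟨_, h1⟩
    exact ⟨k + l, by rw [pow_add, pow_mul]; exact congrArg Subtype.val hl⟩
  · rw [hg'y]
    refine mul_inv_eq_one.1 (hinj _ ?_ ?_)
    · exact mul_mem (zpow_mem (mem_zpowers y) i) (inv_mem (inv_mem (mem_zpowers y)))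
    · rw [← hg'y]
      simp only [QuotientGroup.mk_mul, QuotientGroup.mk_inv, hg'b, hgy, mul_inv_cancel]

theorem isSolvable_of_noInv (hFT : OddOrderGlue.FeitThompson.{u}) (hN : NoInv G) :
    Group.IsSolvable G := by
  haveI : Fact (Nat.Prime 2) := ⟨Nat.prime_two⟩
  have hp : IsPGroup 2 (pCore 2 G) := Thompson.isPGroup_pCore
  haveI : (pCore 2 G).Normal := Thompson.sSup_normal fun N h => h.1
  have hodd : Odd (Nat.card (G ⧸ pCore 2 G)) := by
    rw [← Nat.not_even_iff_odd, even_iff_two_dvd]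
    intro h2
    obtain ⟨t, ht⟩ := exists_prime_orderOf_dvd_card' (G := G ⧸ pCore 2 G) 2 h2
    have := involution_mem_pCore (noInv_quotient hN _ hp) ht
    rw [Thompson.pCore_quotient_pCore, mem_bot] at this
    rw [this, orderOf_one] at ht
    exact absurd ht (by decide)
  haveI : Group.IsSolvable (G ⧸ pCore 2 G) := hFT _ hodd
  haveI : Group.IsNilpotent (pCore 2 G) := hp.isNilpotent
  exact Group.isSolvable_of_ker_le_range (pCore 2 G).subtype (QuotientGroup.mk' (pCore 2 G))
    (by rw [QuotientGroup.ker_mk', range_subtype])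

theorem isSolvable_of_class_sizes (hFT : OddOrderGlue.FeitThompson.{u})
    (h : ∀ (H : Subgroup G) (x y : H), 1 < (centralizer ({x} : Set H)).index →
      1 < (centralizer ({y} : Set H)).index →
      ¬ ((centralizer ({x} : Set H)).index).Coprime (centralizer ({y} : Set H)).index) :
    Group.IsSolvable G :=
  isSolvable_of_noInv hFT (noInv_of_class_sizes h)

end Cfsg.Agent.ClassSize23
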